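import Cfsg.Agent.H716.K4B0.OddIdx
import Cfsg.Agent.H514.K4B0.Red

/-!
# S4925 (helper716): the input `OddIdxB` of the reduction
-/

set_option autoImplicit false

namespace Cfsg.Agent.H716.K4B0

open Cfsg Cfsg.Agent.H514.K4B0

universe u

/-- The input of `Cfsg.Agent.H514.K4B0.reduction` on the normal subgroups of odd index. -/
theorem oddIdxB {M : Ideal AlgInt} (hM : IsPModular 2 M) : OddIdxB.{u} M :=
  fun _ _ _ N _ h4 hodd => kb_le_four hM N h4 hodd

end Cfsg.Agent.H716.K4B0
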