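import Cfsg.Agent.H514.K4B0.Defs
import Cfsg.Agent.H714.K4.Red
import Cfsg.Agent.H685.Alperin
import Cfsg.Agent.H611.CoverPrincipal
import Cfsg.Agent.H633.Unique

/-!
# Four characters of odd degree in the principal block (S4925, helper716): subgroups of odd index

* `mem_of_over` : if `L` is normal and contains a Sylow `p`-subgroup and its centralizer, every irreducible
  character of `G` of degree prime to `p` over the principal block of `L` is in the principal block of `G`;
* `kb_le_of_sup` : `kb M N ≤ kb M G` if `G = N C_G(P)` (Alperin);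
* `kb_le_four` : `kb M G = 4`, `N` normal of odd index: `kb M N ≤ 4`.
-/

set_option autoImplicit false

namespace Cfsg.Agent.H716.K4B0

open Cfsg Subgroup Cfsg.Agent.Characters.Core
open Cfsg.Agent.Blocks.Local Cfsg.Agent.Blocks.Basic Cfsg.Agent.Blocks.FullDefect
open Cfsg.Agent.H714.K4 (odd odd_finite oddK oddK_finite ncard_oddK k0 k0_eq k0_of_odd_card)
open Cfsg.Agent.H514.K4B0

universe u

variable {G : Type u} [Group G] [Finite G] {M : Ideal AlgInt}

/-- The values of a character over the principal block of `L` at the elements centralizing a Sylow subgroup. -/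
theorem apply_sub_one {p : ℕ} [Fact p.Prime] (hM : IsPModular p M) (P : Sylow p G)
    (L : Subgroup G) [L.Normal] [Fintype G] [Fintype L] (hPL : (P : Subgroup G) ≤ L) (χ : IrrCharacter G)
    (θ : IrrCharacter L) (hθ : θ ∈ principalBlock M L)
    (hover : classInner (fun n : L => (χ : G → ℂ) n) (θ : L → ℂ) ≠ 0) (y : L)
    (hy : (y : G) ∈ centralizer ((P : Subgroup G) : Set G)) :
    MemLocalIdeal M ((χ : G → ℂ) (y : G) - (χ : G → ℂ) 1) := by
  classical
  have hprime : M.IsPrime := isPrime_of_isPModular hM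
  have h1 := CharactersDeep.CliffordSum.restrict_eq_smul_sum L χ.2 θ.2 hover
  obtain ⟨e, he⟩ := classInner_isNat (Characters.Clifford.isCharacter_restrict L (isIrr_isCharacter χ.2))
    (isIrr_isCharacter θ.2)
  set S : Finset (L → ℂ) := Finset.univ.image (fun x : G => (θ : L → ℂ) ∘ (MulAut.conjNormal x : MulAut L)) with hS
  have hy' := congrFun h1 y
  have h1' := congrFun h1 1
  simp only [Pi.smul_apply, Finset.sum_apply, smul_eq_mul, OneMemClass.coe_one] at hy' h1'
  rw [hy', h1', he, ← mul_sub, ← Finset.sum_sub_distrib]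
  refine memLocalIdeal_mul_left (memLocalRing_natCast _) (memLocalIdeal_sum fun ψ hψ => ?_)
  obtain ⟨x, -, rfl⟩ := Finset.mem_image.1 hψ
  have hmem := H611.CoverPrincipal.conjIrr_mem_principalBlock (M := M) L x hθ
  have hyc : y ∈ centralizer (((P.subtype hPL : Sylow p L) : Subgroup L) : Set L) := by
    rw [mem_centralizer_iff]
    intro z hz
    apply Subtype.ext
    exact mem_centralizer_iff.1 hy z (Subgroup.mem_subgroupOf.1 hz)
  have h2 := H685.Alperin.ratio_sub_one_of_centralizer hM (P.subtype hPL) hmem hyc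
  have h3 : (Blocks.Covering.conjIrr L x θ : L → ℂ) = (θ : L → ℂ) ∘ (MulAut.conjNormal x : MulAut L) := by
    funext n
    rw [Blocks.Covering.conjIrr_apply]
    rfl
  rw [h3] at h2
  have h4 : ((θ : L → ℂ) ∘ (MulAut.conjNormal x : MulAut L)) 1 ≠ 0 := by
    rw [← h3]
    exact irr_one_ne_zero (Blocks.Covering.conjIrr L x θ).2
  have h5 : MemLocalRing M (((θ : L → ℂ) ∘ (MulAut.conjNormal x : MulAut L)) 1) := by
    rw [← h3]
    exact memLocalRing_irr _ _
  have h6 := memLocalIdeal_mul_left h5 h2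
  convert h6 using 1
  field_simp

/-- **Characters over the principal block of a normal subgroup containing `C_G(P)`.** -/
theorem mem_of_over {p : ℕ} [Fact p.Prime] (hM : IsPModular p M) (P : Sylow p G)
    (L : Subgroup G) [L.Normal] [Fintype G] [Fintype L] (hPL : (P : Subgroup G) ≤ L)
    (hC : centralizer ((P : Subgroup G) : Set G) ≤ L) (χ : IrrCharacter G)
    (hχ : ¬ p ∣ charDegree (χ : G → ℂ)) (θ : IrrCharacter L) (hθ : θ ∈ principalBlock M L)
    (hover : classInner (fun n : L => (χ : G → ℂ) n) (θ : L → ℂ) ≠ 0) : χ ∈ principalBlock M G := by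
  have hprime : M.IsPrime := isPrime_of_isPModular hM
  have h1 := irr_one_ne_zero χ.2
  show ∀ g : G, MemLocalIdeal M (centralChar (fun _ : G => (1 : ℂ)) g - centralChar (χ : G → ℂ) g)
  intro g
  by_cases hg : p ∣ (centralizer ({g} : Set G)).index
  · have hi : MemLocalIdeal M ((centralizer ({g} : Set G)).index : ℂ) :=
      (memLocalIdeal_natCast_iff hM _).2 hg
    have hz : MemLocalIdeal M (centralChar (χ : G → ℂ) g) := by
      unfold centralChar
      rw [mul_div_assoc]
      exact memLocalIdeal_mul_right hi (memLocalRing_div_one hM χ hχ g)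
    have ho : MemLocalIdeal M (centralChar (fun _ : G => (1 : ℂ)) g) := by
      unfold centralChar
      simpa using hi
    exact memLocalIdeal_sub ho hz
  · obtain ⟨y, hy, hyq, hyχ⟩ := exists_regular_congr hM P hg
    have h2 := apply_sub_one hM P L hPL χ θ hθ hover ⟨y, hC hy⟩ hy
    have h2' : MemLocalIdeal M ((χ : G → ℂ) g - (χ : G → ℂ) 1) := by
      have h := memLocalIdeal_add (hyχ χ) h2
      convert h using 1
      ring
    have h3 : centralChar (fun _ : G => (1 : ℂ)) g - centralChar (χ : G → ℂ) g =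
        -(((centralizer ({g} : Set G)).index : ℂ) *
          (((χ : G → ℂ) g - (χ : G → ℂ) 1) * ((χ : G → ℂ) 1)⁻¹)) := by
      unfold centralChar
      field_simp
      ring
    rw [h3]
    exact memLocalIdeal_neg (memLocalIdeal_mul_left (memLocalRing_natCast _)
      (memLocalIdeal_mul_right h2' (memLocalRing_inv_one hM χ hχ)))

/-- `G = N C_G(P)`: the members of the principal block of `N` are restrictions of members of the principal block of
`G`. -/
theorem kb_le_of_sup (hM : IsPModular 2 M) (N : Subgroup G) [N.Normal] (hodd : ¬ 2 ∣ N.index) (P : Sylow 2 G)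
    (hsup : N ⊔ centralizer ((P : Subgroup G) : Set G) = ⊤) : kb M N ≤ kb M G := by
  classical
  have hprime : M.IsPrime := isPrime_of_isPModular hM
  have := Fintype.ofFinite G
  have := Fintype.ofFinite N
  rw [kb_eq, kb_eq]
  have hsub : ob M N ⊆ (fun (χ : G → ℂ) (n : N) => χ n) '' ob M G := by
    intro θ hθ
    obtain ⟨χ, hχ, hover⟩ := H685.Alperin.exists_over hM hodd P hsup (θ := ⟨θ, hθ.1.1⟩) hθ.2
    have hirr := H685.Alperin.isIrr_restrict hM P hsup hχ
    have heq : θ = (fun n : N => (χ : G → ℂ) n) := by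
      by_contra hne
      exact hover (classInner_irr_ne hθ.1.1 hirr hne)
    refine ⟨χ, ⟨⟨χ.2, ?_⟩, hχ⟩, heq.symm⟩
    have h2 : charDegree (χ : G → ℂ) = charDegree θ := by
      rw [heq]
      rfl
    rw [h2]
    exact hθ.1.2
  exact (Set.ncard_le_ncard hsub ((ob_finite M G).image _)).trans (Set.ncard_image_le (ob_finite M G))

omit [Finite G] in
/-- `N C_G(P)` is normal if the normal subgroup `N` contains the Sylow subgroup `P`. -/
theorem normal_sup [Finite G] {p : ℕ} [Fact p.Prime] (N : Subgroup G) [hN : N.Normal] (P : Sylow p G)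
    (hPN : (P : Subgroup G) ≤ N) : (N ⊔ centralizer ((P : Subgroup G) : Set G)).Normal := by
  have hF := Sylow.normalizer_sup_eq_top' (G := G) P hPN
  have hmul : ∀ x ∈ N ⊔ centralizer ((P : Subgroup G) : Set G), ∃ n ∈ N,
      ∃ c ∈ centralizer ((P : Subgroup G) : Set G), n * c = x := by
    intro x hx
    rw [← SetLike.mem_coe, Subgroup.normal_mul] at hx
    obtain ⟨n, hn, c, hc, h⟩ := Set.mem_mul.1 hx
    exact ⟨n, hn, c, hc, h⟩
  refine ⟨fun x hx g => ?_⟩
  have hg : g ∈ N ⊔ normalizer ((P : Subgroup G) : Set G) := by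
    have h1 : g ∈ (⊤ : Subgroup G) := mem_top g
    rw [← hF, sup_comm] at h1
    exact h1
  rw [← SetLike.mem_coe, Subgroup.normal_mul] at hg
  obtain ⟨n, hn, h, hh, rfl⟩ := Set.mem_mul.1 hg
  have hnL : n ∈ N ⊔ centralizer ((P : Subgroup G) : Set G) := mem_sup_left hn
  have hkey : h * x * h⁻¹ ∈ N ⊔ centralizer ((P : Subgroup G) : Set G) := by
    obtain ⟨m, hm, c, hc, rfl⟩ := hmul x hx
    have h1 : h * c * h⁻¹ ∈ centralizer ((P : Subgroup G) : Set G) := by
      rw [mem_centralizer_iff]
      intro z hz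
      have h2 : h⁻¹ * z * h ∈ (P : Subgroup G) := by
        have := (mem_normalizer_iff''.1 hh z).1 hz
        exact this
      have h3 := mem_centralizer_iff.1 hc _ h2
      calc z * (h * c * h⁻¹) = h * ((h⁻¹ * z * h) * c) * h⁻¹ := by group
        _ = h * (c * (h⁻¹ * z * h)) * h⁻¹ := by rw [h3]
        _ = h * c * h⁻¹ * z := by group
    have h2 : h * (m * c) * h⁻¹ = (h * m * h⁻¹) * (h * c * h⁻¹) := by group
    rw [h2]
    exact mul_mem (mem_sup_left (hN.conj_mem m hm h)) (mem_sup_right h1)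
  have h4 : n * h * x * (n * h)⁻¹ = n * (h * x * h⁻¹) * n⁻¹ := by group
  rw [h4]
  exact mul_mem (mul_mem hnL hkey) (inv_mem hnL)

/-- The case of a subgroup containing `C_G(P)`. -/
theorem kb_le_four_of_centralizer (hM : IsPModular 2 M) (N : Subgroup G) [hN : N.Normal] (h4 : kb M G = 4)
    (hodd : ¬ 2 ∣ N.index) (P : Sylow 2 G) (hPN : (P : Subgroup G) ≤ N)
    (hC : centralizer ((P : Subgroup G) : Set G) ≤ N) : kb M N ≤ 4 := by
  classical
  have hprime : M.IsPrime := isPrime_of_isPModular hM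
  have := Fintype.ofFinite G
  have := Fintype.ofFinite N
  have hsubK : oddK N ⊆ ob M G := by
    intro χ hχ
    refine ⟨hχ.1, ?_⟩
    refine mem_of_over hM P N hPN hC ⟨χ, hχ.1.1⟩ hχ.1.2 ⟨1, isIrr_one⟩
      (Blocks.Basic.sameBlock_refl _) ?_
    have h2 : (fun n : N => χ n) = χ 1 • (1 : N → ℂ) := by
      funext n
      rw [hχ.2 n n.2, Pi.smul_apply, Pi.one_apply, smul_eq_mul, mul_one]
    show classInner (fun n : N => χ n) (1 : N → ℂ) ≠ 0
    rw [h2, classInner_smul_left, classInner_irr_self isIrr_one, mul_one]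
    exact irr_one_ne_zero hχ.1.1
  have hle : k0 (G ⧸ N) ≤ 4 := by
    rw [← ncard_oddK, ← h4, kb_eq]
    exact Set.ncard_le_ncard hsubK (ob_finite M G)
  have hcard : Nat.card (G ⧸ N) = N.index := (index_eq_card N).symm
  have ho : Odd (Nat.card (G ⧸ N)) := by
    rw [hcard]
    exact Nat.not_even_iff_odd.1 (fun h => hodd h.two_dvd)
  have hk := k0_of_odd_card ho
  rcases H455.FewOdd.card_mem ho (by omega) with ⟨a, b⟩ | ⟨a, b⟩ | ⟨a, -⟩ | ⟨a, -⟩
  · have h1 : N = ⊤ := index_eq_one.1 (by rw [← hcard, b])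
    subst h1
    rw [kb_congr (topEquiv (G := G)), h4]
  · have h1 : (ob M G \ oddK N).ncard = 1 := by
      rw [Set.ncard_sdiff hsubK (oddK_finite N), ← kb_eq, ncard_oddK]
      omega
    obtain ⟨χ₀, hχ₀⟩ := Set.ncard_eq_one.1 h1
    have hover : ∀ θ ∈ ob M N, θ ≠ 1 → classInner (fun n : N => χ₀ n) θ ≠ 0 := by
      intro θ hθ hne
      obtain ⟨n, hn0, hn⟩ := isIrr_apply_one hθ.1.1
      obtain ⟨χ, hχ, hc⟩ := H628.PPrimeKer.exists_over (p := 2) N hodd (isIrr_isCharacter hθ.1.1) hn (by
        have := hθ.1.2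
        rwa [H670.PSing.charDegree_eq_of hn] at this)
      have hc' : classInner (fun n : N => (χ : G → ℂ) n) θ ≠ 0 := by
        intro h0
        apply hc
        rw [← classInner_conj_symm, h0, map_zero]
      have hmem : (χ : G → ℂ) ∈ ob M G \ oddK N := by
        refine ⟨⟨⟨χ.2, hχ⟩, mem_of_over hM P N hPN hC χ hχ ⟨θ, hθ.1.1⟩ hθ.2 hc'⟩, fun h => hc ?_⟩
        have h2 : (fun n : N => (χ : G → ℂ) n) = (χ : G → ℂ) 1 • (1 : N → ℂ) := by
          funext n
          rw [h.2 n n.2, Pi.smul_apply, Pi.one_apply, smul_eq_mul, mul_one]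
        rw [h2, classInner_smul_right, classInner_irr_ne hθ.1.1 isIrr_one hne, mul_zero]
      rw [hχ₀, Set.mem_singleton_iff] at hmem
      rw [← hmem]
      exact hc'
    have hχ₀i : IsIrrCharacter G χ₀ := by
      have h2 : χ₀ ∈ ob M G \ oddK N := by rw [hχ₀]; rfl
      exact h2.1.1.1
    by_cases hex : ∃ θ₀ ∈ ob M N, θ₀ ≠ 1
    · obtain ⟨θ₀, h0, h01⟩ := hex
      have hsub : ob M N ⊆ {1} ∪ Set.range (fun q : G ⧸ N => θ₀ ∘ (MulAut.conjNormal q.out : MulAut N)) := by
        intro θ hθ
        by_cases hne : θ = 1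
        · exact Or.inl hne
        · right
          obtain ⟨g, hg⟩ := Characters.Clifford.exists_conj_of_constituents N hχ₀i h0.1.1 hθ.1.1 (hover θ₀ h0 h01)
            (hover θ hθ hne)
          refine ⟨(g : G ⧸ N), ?_⟩
          obtain ⟨n, hn⟩ := QuotientGroup.mk_out_eq_mul N g
          show θ₀ ∘ (MulAut.conjNormal (Quotient.out (g : G ⧸ N)) : MulAut N) = θ
          have h5 : Quotient.out (g : G ⧸ N) = g * n := hn
          rw [h5, CharactersDeep.CliffordSum.comp_conjNormal_mul, ← hg]
          funext x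
          show θ (MulAut.conjNormal (n : G) x) = θ x
          have h6 : (MulAut.conjNormal (n : G) : MulAut N) x = n * x * n⁻¹ := by
            apply Subtype.ext
            rw [MulAut.conjNormal_apply]
            rfl
          rw [h6]
          exact isIrr_isClassFunction hθ.1.1 x n
      rw [kb_eq]
      refine (Set.ncard_le_ncard hsub (Set.toFinite _)).trans ?_
      refine (Set.ncard_union_le _ _).trans ?_
      rw [Set.ncard_singleton]
      have h6 : (Set.range (fun q : G ⧸ N => θ₀ ∘ (MulAut.conjNormal q.out : MulAut N))).ncard ≤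
          Nat.card (G ⧸ N) := by
        rw [← Nat.card_coe_set_eq]
        exact Finite.card_range_le _
      omega
    · push Not at hex
      rw [kb_eq]
      refine (Set.ncard_le_ncard (t := {1}) (fun θ hθ => hex θ hθ) (Set.toFinite _)).trans ?_
      rw [Set.ncard_singleton]
      norm_num
  · omega
  · omega

/-- **The number of characters of odd degree in the principal block of a normal subgroup of odd index.** -/
theorem kb_le_four (hM : IsPModular 2 M) (N : Subgroup G) [hN : N.Normal] (h4 : kb M G = 4)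
    (hodd : ¬ 2 ∣ N.index) : kb M N ≤ 4 := by
  have hprime : M.IsPrime := isPrime_of_isPModular hM
  obtain ⟨P⟩ : Nonempty (Sylow 2 G) := inferInstance
  have hPN : (P : Subgroup G) ≤ N := by
    intro x hx
    obtain ⟨k, hk⟩ := (IsPGroup.iff_orderOf.1 P.isPGroup') ⟨x, hx⟩
    rw [Subgroup.orderOf_mk] at hk
    have h1 : orderOf (QuotientGroup.mk' N x) ∣ 2 ^ k := hk ▸ orderOf_map_dvd (QuotientGroup.mk' N) x
    have h2 : orderOf (QuotientGroup.mk' N x) ∣ N.index := by
      rw [index_eq_card]
      exact orderOf_dvd_natCard _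
    have h3 : orderOf (QuotientGroup.mk' N x) = 1 :=
      Nat.eq_one_of_dvd_coprimes (((Nat.Prime.coprime_iff_not_dvd Nat.prime_two).2 hodd).pow_left k) h1 h2
    exact (QuotientGroup.eq_one_iff x).1 (orderOf_eq_one_iff.1 h3)
  have hnorm : (N ⊔ centralizer ((P : Subgroup G) : Set G)).Normal := normal_sup N P hPN
  set L : Subgroup G := N ⊔ centralizer ((P : Subgroup G) : Set G) with hL
  have hNL : N ≤ L := le_sup_left
  have hPL : (P : Subgroup G) ≤ L := hPN.trans hNL
  have hoddL : ¬ 2 ∣ L.index := fun h => hodd (h.trans (index_dvd_of_le hNL))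
  have h1 : kb M L ≤ 4 := kb_le_four_of_centralizer hM L h4 hoddL P hPL le_sup_right
  refine le_trans ?_ h1
  rw [← kb_congr (subgroupOfEquivOfLe hNL)]
  refine kb_le_of_sup hM (N.subgroupOf L) ?_ (P.subtype hPL) ?_
  · intro h
    apply hodd
    have h2 : (N.subgroupOf L).index = N.relIndex L := rfl
    rw [h2] at h
    rw [← relIndex_mul_index hNL]
    exact h.mul_right _
  · rw [eq_top_iff]
    rintro ⟨x, hx⟩ -
    have hx' := hx
    rw [hL, ← SetLike.mem_coe, Subgroup.normal_mul] at hx'
    obtain ⟨n, hn, c, hc, rfl⟩ := Set.mem_mul.1 hx'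
    have hcL : c ∈ L := mem_sup_right hc
    have h3 : (⟨n * c, hx⟩ : L) = ⟨n, hNL hn⟩ * ⟨c, hcL⟩ := rfl
    rw [h3]
    refine mul_mem (mem_sup_left (mem_subgroupOf.2 hn)) (mem_sup_right ?_)
    rw [mem_centralizer_iff]
    intro z hz
    apply Subtype.ext
    exact mem_centralizer_iff.1 hc z (Subgroup.mem_subgroupOf.1 hz)

end Cfsg.Agent.H716.K4B0
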